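import Cfsg.Agent.Lib.AppendixC.Pairs

/-!
The final configuration of the odd order theorem (Bender–Glauberman, Appendix C): the set
`pairSet` is symmetric.
-/

set_option autoImplicit false
set_option linter.unusedSectionVars false

open scoped Pointwise IsMulCommutative

namespace CfsgLib.AppendixC

open Subgroup

variable {G : Type*} [Group G] [Finite G] {F : Type*} [Field F] [Fintype F] {p q : ℕ}
  [Fact p.Prime] [Fact q.Prime] [CharP F p]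

/-- The configuration: `P` is the additive group of `F`, on which `U` acts as the norm-one
elements; `t = y s y⁻¹` normalizes `U`, where `f s = 1`. -/
structure Config (p q : ℕ) (P U Q : Subgroup G) (f ψ : G → F) (y s t : G) : Prop where
  coprime : Nat.Coprime (normExp p q) (p - 1)
  card_field : Fintype.card F = p ^ q
  bij : Set.BijOn f (P : Set G) Set.univ
  map_mul : ∀ x ∈ P, ∀ z ∈ P, f (x * z) = f x + f z
  le_normalizer : U ≤ normalizer (P : Set G)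
  action : ∀ u ∈ U, ψ u ≠ 0 ∧ ∀ x ∈ P, f (u * x * u⁻¹) = ψ u * f x
  psi_mul : ∀ u ∈ U, ∀ v ∈ U, ψ (u * v) = ψ u * ψ v
  psi_injOn : Set.InjOn ψ (U : Set G)
  card_U : Nat.card U * (p - 1) = p ^ q - 1
  comm_Q : IsMulCommutative Q
  card_Q : (Nat.card Q).Coprime p
  s_mem : s ∈ P
  f_s : f s = 1
  s_normalizes : s ∈ normalizer (Q : Set G)
  y_mem : y ∈ Q
  t_eq : t = y * s * y⁻¹
  t_normalizes : t ∈ normalizer (U : Set G)

namespace Config

variable {P U Q : Subgroup G} {f ψ : G → F} {y s t : G} (c : Config p q P U Q f ψ y s t)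

include c

theorem injective {a b : G} (ha : a ∈ P) (hb : b ∈ P) (h : f a = f b) : a = b :=
  c.bij.injOn ha hb h

theorem map_one : f 1 = 0 := by simpa using c.map_mul 1 P.one_mem 1 P.one_mem

theorem map_inv {x : G} (hx : x ∈ P) : f x⁻¹ = -f x := by
  have h := c.map_mul x hx x⁻¹ (P.inv_mem hx)
  rw [mul_inv_cancel, c.map_one] at h
  linear_combination -h

theorem map_pow {x : G} (hx : x ∈ P) : ∀ n : ℕ, f (x ^ n) = n * f x
  | 0 => by simp [c.map_one]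
  | n + 1 => by
    rw [pow_succ, c.map_mul _ (P.pow_mem hx n) _ hx, map_pow hx n]; push_cast; ring

theorem map_zpow {x : G} (hx : x ∈ P) : ∀ n : ℤ, f (x ^ n) = n * f x
  | (n : ℕ) => by rw [zpow_natCast, c.map_pow hx, Int.cast_natCast]
  | Int.negSucc n => by
    rw [zpow_negSucc, c.map_inv (P.pow_mem hx _), c.map_pow hx, Int.cast_negSucc]; push_cast; ring

theorem pow_p {x : G} (hx : x ∈ P) : x ^ p = 1 :=
  c.injective (P.pow_mem hx p) P.one_mem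
    (by rw [c.map_pow hx, c.map_one, CharP.cast_eq_zero, zero_mul])

theorem zpow_s_eq {a b : ℤ} (h : (a : F) = b) : s ^ a = s ^ b :=
  c.injective (P.zpow_mem c.s_mem a) (P.zpow_mem c.s_mem b)
    (by rw [c.map_zpow c.s_mem, c.map_zpow c.s_mem, h])

theorem t_zpow (m : ℤ) : t ^ m = y * s ^ m * y⁻¹ := by rw [c.t_eq, conj_zpow]

theorem zpow_t_eq {a b : ℤ} (h : (a : F) = b) : t ^ a = t ^ b := by
  rw [c.t_zpow, c.t_zpow, c.zpow_s_eq h]

theorem psi_one : ψ 1 = 1 := by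
  have h := c.psi_mul 1 U.one_mem 1 U.one_mem
  rw [mul_one] at h
  exact mul_right_cancel₀ (c.action 1 U.one_mem).1 (by rw [one_mul]; exact h.symm)

theorem psi_pow {u : G} (hu : u ∈ U) : ∀ n : ℕ, ψ (u ^ n) = ψ u ^ n
  | 0 => by simp [c.psi_one]
  | n + 1 => by rw [pow_succ, c.psi_mul _ (U.pow_mem hu n) _ hu, psi_pow hu n, pow_succ]

theorem psi_inv {u : G} (hu : u ∈ U) : ψ u⁻¹ = (ψ u)⁻¹ :=
  eq_inv_of_mul_eq_one_left (by rw [← c.psi_mul _ (U.inv_mem hu) _ hu, inv_mul_cancel, c.psi_one])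

theorem comm_U {u v : G} (hu : u ∈ U) (hv : v ∈ U) : Commute u v :=
  c.psi_injOn (U.mul_mem hu hv) (U.mul_mem hv hu)
    (by rw [c.psi_mul _ hu _ hv, c.psi_mul _ hv _ hu, mul_comm])

theorem card_U_eq : Nat.card U = normExp p q :=
  Nat.eq_of_mul_eq_mul_right (by have := (Fact.out : p.Prime).two_le; omega)
    (c.card_U.trans (normExp_mul q).symm)

theorem pow_normExp {u : G} (hu : u ∈ U) : u ^ normExp p q = 1 := by
  have h := pow_card_eq_one' (G := U) (x := (⟨u, hu⟩ : U))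
  rw [c.card_U_eq] at h
  exact congrArg Subtype.val h

theorem psi_normOne {u : G} (hu : u ∈ U) : ψ u ^ normExp p q = 1 := by
  rw [← c.psi_pow hu, c.pow_normExp hu, c.psi_one]

theorem exists_psi {z : F} (hz : z ^ normExp p q = 1) : ∃ u ∈ U, ψ u = z := by
  classical
  let : Fintype U := Fintype.ofFinite U
  have hn : 0 < normExp p q := c.card_U_eq ▸ Nat.card_pos
  have h : (Finset.univ.image fun u : U => ψ u) =
      (Polynomial.nthRoots (normExp p q) (1 : F)).toFinset := by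
    refine Finset.eq_of_subset_of_card_le (fun x hx => ?_) ?_
    · obtain ⟨u, -, rfl⟩ := Finset.mem_image.1 hx
      rw [Multiset.mem_toFinset, Polynomial.mem_nthRoots hn]
      exact c.psi_normOne u.2
    · have hinj : Function.Injective (fun u : U => ψ u) := fun a b hab =>
        Subtype.ext (c.psi_injOn a.2 b.2 hab)
      rw [Finset.card_image_of_injective _ hinj, Finset.card_univ, ← Nat.card_eq_fintype_card, c.card_U_eq]
      exact (Multiset.toFinset_card_le _).trans (Polynomial.card_nthRoots _ _)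
  have hz' : z ∈ (Polynomial.nthRoots (normExp p q) (1 : F)).toFinset := by
    rw [Multiset.mem_toFinset, Polynomial.mem_nthRoots hn]; exact hz
  rw [← h] at hz'
  obtain ⟨u, -, hu⟩ := Finset.mem_image.1 hz'
  exact ⟨u, u.2, hu⟩

theorem eq_one_of_pow_p {u : G} (hu : u ∈ U) (h : u ^ p = u) : u = 1 := by
  have h1 : u ^ (p - 1) = 1 := mul_right_cancel (b := u) (by
    rw [one_mul, ← pow_succ, Nat.sub_add_cancel (Fact.out : p.Prime).one_le, h])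
  rw [← pow_one u, ← c.coprime.gcd_eq_one]
  exact pow_gcd_eq_one.2 ⟨c.pow_normExp hu, h1⟩

theorem eq_one_of_psi_pow_p {u : G} (hu : u ∈ U) (h : ψ u ^ p = ψ u) : u = 1 :=
  c.eq_one_of_pow_p hu (c.psi_injOn (U.pow_mem hu p) hu (by rw [c.psi_pow hu, h]))

theorem inter_eq_one {x : G} (hx : x ∈ P) (hu : x ∈ U) : x = 1 := by
  refine c.psi_injOn hu U.one_mem ?_
  refine frobenius_inj F p ?_
  rw [frobenius_def, frobenius_def, ← c.psi_pow hu, c.pow_p hx, c.psi_one, one_pow]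

theorem exists_decomp {z : F} (hz : z ≠ 0) :
    ∃ k : ℤ, (k : F) ≠ 0 ∧ ∃ u ∈ U, z = k * ψ u := by
  have hpp : p.Prime := Fact.out
  have h1 : (z ^ normExp p q) ^ (p - 1) = 1 := by
    rw [← pow_mul, normExp_mul, ← c.card_field, FiniteField.pow_card_sub_one_eq_one z hz]
  obtain ⟨m, -, hm⟩ := Nat.exists_mul_mod_eq_of_coprime 1 c.coprime
    (by have := hpp.two_le; omega)
  set w := (z ^ normExp p q) ^ m with hw
  have hw1 : w ^ (p - 1) = 1 := by rw [hw, ← pow_mul, mul_comm, pow_mul, h1, one_pow]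
  have hwp : w ^ p = w := by
    rw [← Nat.sub_add_cancel hpp.one_le, pow_succ, hw1, one_mul]
  obtain ⟨k, hk⟩ := exists_natCast_of_pow_eq hwp
  have hwn : w ^ normExp p q = z ^ normExp p q := by
    rw [hw, ← pow_mul (z ^ normExp p q) m (normExp p q),
      pow_eq_pow_mod _ h1, mul_comm m, hm, ← pow_eq_pow_mod _ h1, pow_one]
  have hw0 : w ≠ 0 := pow_ne_zero _ (pow_ne_zero _ hz)
  obtain ⟨u, hu, hpu⟩ := c.exists_psi (z := z / w)
    (by rw [div_pow, hwn, div_self (pow_ne_zero _ hz)])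
  refine ⟨k, ?_, u, hu, ?_⟩
  · rw [Int.cast_natCast, hk]; exact hw0
  · rw [Int.cast_natCast, hk, hpu, mul_div_cancel₀ _ hw0]

theorem conj_mem {u x : G} (hu : u ∈ U) (hx : x ∈ P) : u * x * u⁻¹ ∈ P :=
  (mem_normalizer_iff.1 (c.le_normalizer hu) x).1 hx

/-- Multiplication in `P U`. -/
theorem word {x u : G} (hx : x ∈ U) (hu : u ∈ U) {i j k : ℤ}
    (h : (i : F) + j * ψ x = k * ψ u) : s ^ i * x * s ^ j = u * s ^ k * (u⁻¹ * x) := by
  have e : s ^ i * (x * s ^ j * x⁻¹) = u * s ^ k * u⁻¹ := by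
    refine c.injective (P.mul_mem (P.zpow_mem c.s_mem i) (c.conj_mem hx (P.zpow_mem c.s_mem j)))
      (c.conj_mem hu (P.zpow_mem c.s_mem k)) ?_
    rw [c.map_mul _ (P.zpow_mem c.s_mem i) _ (c.conj_mem hx (P.zpow_mem c.s_mem j)),
      (c.action x hx).2 _ (P.zpow_mem c.s_mem j), (c.action u hu).2 _ (P.zpow_mem c.s_mem k),
      c.map_zpow c.s_mem, c.map_zpow c.s_mem, c.map_zpow c.s_mem, c.f_s]
    linear_combination h
  calc s ^ i * x * s ^ j = s ^ i * (x * s ^ j * x⁻¹) * x := by group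
    _ = u * s ^ k * u⁻¹ * x := by rw [e]
    _ = u * s ^ k * (u⁻¹ * x) := by group

/-- A non-trivial power of `s` conjugates no non-trivial element of `U` into `U`. -/
theorem fix {k : ℤ} (hk : (k : F) ≠ 0) {X : G} (hX : X ∈ U) (h : s ^ k * X * s ^ (-k) ∈ U) :
    X = 1 := by
  have hP : s ^ k * (X * s ^ (-k) * X⁻¹) ∈ P :=
    P.mul_mem (P.zpow_mem c.s_mem k) (c.conj_mem hX (P.zpow_mem c.s_mem _))
  have hU : s ^ k * (X * s ^ (-k) * X⁻¹) ∈ U := by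
    have := U.mul_mem h (U.inv_mem hX)
    simpa [mul_assoc] using this
  have h0 := congrArg f (c.inter_eq_one hP hU)
  rw [c.map_one, c.map_mul _ (P.zpow_mem c.s_mem k) _ (c.conj_mem hX (P.zpow_mem c.s_mem _)),
    (c.action X hX).2 _ (P.zpow_mem c.s_mem _), c.map_zpow c.s_mem, c.map_zpow c.s_mem, c.f_s] at h0
  push_cast at h0
  refine c.psi_injOn hX U.one_mem ?_
  rw [c.psi_one]
  exact mul_left_cancel₀ hk (by linear_combination -h0)

theorem sigma_mem {x : G} (hx : x ∈ U) (i : ℤ) : t ^ i * x * t ^ (-i) ∈ U := by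
  rw [zpow_neg]
  exact (mem_normalizer_iff.1 (zpow_mem c.t_normalizes i) x).1 hx

theorem mem_sup {g : G} : g ∈ P ⊔ U ↔ ∃ x ∈ P, ∃ u ∈ U, g = x * u := by
  rw [← SetLike.mem_coe, coe_mul_of_right_le_normalizer_left P U c.le_normalizer, Set.mem_mul]
  simp only [SetLike.mem_coe, eq_comm (a := g)]

theorem sconj_mem {g : G} (hg : g ∈ Q) (i : ℤ) : s ^ i * g * s ^ (-i) ∈ Q := by
  rw [zpow_neg]
  exact (mem_normalizer_iff.1 (zpow_mem c.s_normalizes i) g).1 hg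

theorem d_mem (m : ℤ) : t ^ m * s ^ (-m) ∈ Q := by
  rw [c.t_zpow, mul_assoc, mul_assoc]
  exact Q.mul_mem c.y_mem (by simpa [mul_assoc] using c.sconj_mem (Q.inv_mem c.y_mem) m)

theorem inter_Q {x : G} (hx : x ∈ P) (hQ : x ∈ Q) : x = 1 := by
  have h := pow_card_eq_one' (G := Q) (x := (⟨x, hQ⟩ : Q))
  rw [← pow_one x, ← c.card_Q.gcd_eq_one]
  exact pow_gcd_eq_one.2 ⟨congrArg Subtype.val h, c.pow_p hx⟩

theorem exists_ne_one : ∃ X ∈ U, X ≠ 1 := by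
  by_contra! h
  have h1 : Nat.card U = 1 := by
    rw [(Subgroup.eq_bot_iff_forall U).2 h, card_bot]
  have := two_le_normExp (Fact.out : p.Prime).two_le (Fact.out : q.Prime).two_le
  rw [c.card_U_eq] at h1
  omega

/-- No non-trivial power of `t` normalizes `P`. -/
theorem not_normalizes {i : ℤ} (h : ∀ x ∈ P, t ^ i * x * t ^ (-i) ∈ P) : (i : F) = 0 := by
  by_contra hi
  have hpp : p.Prime := Fact.out
  have hcop : IsCoprime (p : ℤ) i := (Nat.prime_iff_prime_int.1 hpp).coprime_iff_not_dvd.2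
    fun hd => hi ((CharP.intCast_eq_zero_iff F p i).2 hd)
  obtain ⟨a, b, hab⟩ := hcop
  have hti : t ^ i ∈ normalizer (P : Set G) := by
    have hmap : P.map (MulAut.conj (t ^ i)).toMonoidHom = P := by
      refine eq_of_le_of_card_ge ?_ (card_map_of_injective (MulAut.conj (t ^ i)).injective).ge
      rintro _ ⟨z, hz, rfl⟩
      show MulAut.conj (t ^ i) z ∈ P
      rw [MulAut.conj_apply, ← zpow_neg]
      exact h z hz
    rw [mem_normalizer_iff]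
    intro x
    constructor
    · intro hx
      rw [← zpow_neg]
      exact h x hx
    · intro hx
      obtain ⟨z, hz, hzx⟩ := hmap.ge hx
      change t ^ i * z * (t ^ i)⁻¹ = t ^ i * x * (t ^ i)⁻¹ at hzx
      rw [← mul_left_cancel (mul_right_cancel hzx)]
      exact hz
  have ht : t ∈ normalizer (P : Set G) := by
    have h1 : t ^ (b * i) = t := by
      conv_rhs => rw [← zpow_one t]
      refine c.zpow_t_eq ?_
      rw [← hab]; push_cast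
      rw [CharP.cast_eq_zero]; ring
    rw [← h1, mul_comm, zpow_mul]
    exact zpow_mem hti b
  have hd : t * s⁻¹ ∈ Q := by simpa using c.d_mem 1
  have hsN : s ∈ normalizer (P : Set G) := Subgroup.le_normalizer c.s_mem
  have hcomm : Commute (t * s⁻¹) s := by
    have h1 : (t * s⁻¹) * s * (t * s⁻¹)⁻¹ * s⁻¹ ∈ P :=
      P.mul_mem ((mem_normalizer_iff.1 (mul_mem ht (inv_mem hsN)) s).1 c.s_mem) (P.inv_mem c.s_mem)
    have h2 : (t * s⁻¹) * (s * (t * s⁻¹)⁻¹ * s⁻¹) ∈ Q :=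
      Q.mul_mem hd (by simpa using c.sconj_mem (Q.inv_mem hd) 1)
    have h3 := c.inter_Q h1 (by simpa only [mul_assoc] using h2)
    show (t * s⁻¹) * s = s * (t * s⁻¹)
    calc (t * s⁻¹) * s = ((t * s⁻¹) * s * (t * s⁻¹)⁻¹ * s⁻¹) * (s * (t * s⁻¹)) := by group
      _ = s * (t * s⁻¹) := by rw [h3, one_mul]
  have htp : t ^ p = 1 := by rw [c.t_eq, conj_pow, c.pow_p c.s_mem, mul_one, mul_inv_cancel]
  have hdp : (t * s⁻¹) ^ p = 1 := by
    have h1 := hcomm.mul_pow p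
    rw [inv_mul_cancel_right, htp, c.pow_p c.s_mem, mul_one] at h1
    exact h1.symm
  have hd1 : t * s⁻¹ = 1 := by
    rw [← pow_one (t * s⁻¹), ← c.card_Q.gcd_eq_one]
    exact pow_gcd_eq_one.2
      ⟨congrArg Subtype.val (pow_card_eq_one' (G := Q) (x := (⟨_, hd⟩ : Q))), hdp⟩
  obtain ⟨X, hX, hX1⟩ := c.exists_ne_one
  refine hX1 (c.fix (k := 1) (by simp) hX ?_)
  have := c.sigma_mem hX 1
  rwa [mul_inv_eq_one.1 hd1] at this

/-- `P U` meets its conjugate by a non-trivial power of `t` in `U`. -/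
theorem mem_of_conj_mem {i : ℤ} (hi : (i : F) ≠ 0) {g : G} (hg : g ∈ P ⊔ U)
    (h : t ^ i * g * t ^ (-i) ∈ P ⊔ U) : g ∈ U := by
  classical
  obtain ⟨x, hx, u, hu, rfl⟩ := c.mem_sup.1 hg
  rcases eq_or_ne x 1 with rfl | hx1
  · simpa using hu
  exfalso
  set D := P ⊓ (P ⊔ U).comap (MulAut.conj (t ^ i)).toMonoidHom with hD
  have hmem : ∀ z, z ∈ D ↔ z ∈ P ∧ t ^ i * z * t ^ (-i) ∈ P ⊔ U := fun z => by
    rw [hD, Subgroup.mem_inf, Subgroup.mem_comap, zpow_neg]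
    rfl
  have hxD : x ∈ D := (hmem x).2 ⟨hx, by
    have h1 : t ^ i * x * t ^ (-i) = t ^ i * (x * u) * t ^ (-i) * (t ^ i * u * t ^ (-i))⁻¹ := by
      group
    rw [h1]
    exact mul_mem h (inv_mem (mem_sup_right (c.sigma_mem hu i)))⟩
  have hDU : ∀ v ∈ U, ∀ z ∈ D, v * z * v⁻¹ ∈ D := by
    intro v hv z hz
    refine (hmem _).2 ⟨c.conj_mem hv ((hmem z).1 hz).1, ?_⟩
    have h1 : t ^ i * (v * z * v⁻¹) * t ^ (-i) =
        (t ^ i * v * t ^ (-i)) * (t ^ i * z * t ^ (-i)) * (t ^ i * v * t ^ (-i))⁻¹ := by group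
    rw [h1]
    exact mul_mem (mul_mem (mem_sup_right (c.sigma_mem hv i)) ((hmem z).1 hz).2)
      (inv_mem (mem_sup_right (c.sigma_mem hv i)))
  have hfx : f x ≠ 0 := fun h0 => hx1 (c.injective hx P.one_mem (by rw [h0, c.map_one]))
  have hall : P ≤ D := by
    intro w hw
    rcases eq_or_ne (f w) 0 with h0 | h0
    · rw [c.injective hw P.one_mem (by rw [h0, c.map_one])]; exact one_mem D
    obtain ⟨k, -, v, hv, hk⟩ := c.exists_decomp (div_ne_zero h0 hfx)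
    have hw' : w = v * x ^ k * v⁻¹ := c.injective hw (c.conj_mem hv (P.zpow_mem hx k)) (by
      rw [(c.action v hv).2 _ (P.zpow_mem hx k), c.map_zpow hx, ← mul_assoc, mul_comm (ψ v), ← hk,
        div_mul_cancel₀ _ hfx])
    rw [hw']
    exact hDU v hv _ (zpow_mem hxD k)
  refine hi (c.not_normalizes fun z hz => ?_)
  obtain ⟨z', hz', v, hv, he⟩ := c.mem_sup.1 ((hmem z).1 (hall hz)).2
  have hpow : ∀ n : ℕ, ∃ w ∈ P, (z' * v) ^ n = w * v ^ n := by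
    intro n
    induction n with
    | zero => exact ⟨1, P.one_mem, by simp⟩
    | succ n ih =>
      obtain ⟨w, hw, hwe⟩ := ih
      refine ⟨w * (v ^ n * z' * (v ^ n)⁻¹), P.mul_mem hw (c.conj_mem (U.pow_mem hv n) hz'), ?_⟩
      rw [pow_succ, hwe, pow_succ]; group
  obtain ⟨w, hw, hwe⟩ := hpow p
  have hg0 : (z' * v) ^ p = 1 := by
    rw [← he, zpow_neg, conj_pow, c.pow_p hz, mul_one, mul_inv_cancel]
  rw [hg0] at hwe
  have hvp : v ^ p = 1 := c.inter_eq_one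
    (by rw [eq_inv_of_mul_eq_one_right hwe.symm]; exact P.inv_mem hw) (U.pow_mem hv p)
  have hv1 : v = 1 := c.psi_injOn hv U.one_mem (frobenius_inj F p (by
    rw [frobenius_def, frobenius_def, ← c.psi_pow hv, hvp, c.psi_one, one_pow]))
  rw [he, hv1, mul_one]
  exact hz'

/-- The identity coming from the commutativity of `Q`. -/
theorem swap {a b n : ℤ} (h : a + b = n) :
    s ^ n = t ^ b * s ^ a * t ^ (-n) * s ^ b * t ^ a := by
  subst h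
  have h1 : t ^ (-b) * s ^ b ∈ Q := by simpa using c.d_mem (-b)
  have h2 : s ^ a * t ^ (-a) ∈ Q := by simpa using Q.inv_mem (c.d_mem a)
  have := c.comm_Q
  have hc : (t ^ (-b) * s ^ b) * (s ^ a * t ^ (-a)) = (s ^ a * t ^ (-a)) * (t ^ (-b) * s ^ b) :=
    congrArg Subtype.val (mul_comm' (⟨_, h1⟩ : Q) ⟨_, h2⟩)
  calc s ^ (a + b) = t ^ b * ((t ^ (-b) * s ^ b) * (s ^ a * t ^ (-a))) * t ^ a := by group
    _ = t ^ b * ((s ^ a * t ^ (-a)) * (t ^ (-b) * s ^ b)) * t ^ a := by rw [hc]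
    _ = t ^ b * s ^ a * t ^ (-(a + b)) * s ^ b * t ^ a := by group

/-- The relation of a pair of norm-one elements with sum `2`, transported. -/
theorem triangle {u v : G} (hu : u ∈ U) (hv : v ∈ U) (huv : ψ u + ψ v = 2) :
    t ^ (-1 : ℤ) * (s ^ (-1 : ℤ) * (t ^ (2 : ℤ) * (u⁻¹ * v) * t ^ (-2 : ℤ)) * s ^ (3 : ℤ)) *
      t ^ (-1 : ℤ) * (s ^ (-2 : ℤ) * (t ^ (3 : ℤ) * v⁻¹ * t ^ (-3 : ℤ)) * s ^ (1 : ℤ)) *
      t ^ (2 : ℤ) * (s ^ (-3 : ℤ) * (t ^ (1 : ℤ) * u * t ^ (-1 : ℤ)) * s ^ (2 : ℤ)) = 1 := by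
  have hR : u * s * u⁻¹ * (v * s * v⁻¹) = s ^ (2 : ℤ) := by
    refine c.injective (P.mul_mem (c.conj_mem hu c.s_mem) (c.conj_mem hv c.s_mem))
      (P.zpow_mem c.s_mem 2) ?_
    rw [c.map_mul _ (c.conj_mem hu c.s_mem) _ (c.conj_mem hv c.s_mem),
      (c.action u hu).2 _ c.s_mem, (c.action v hv).2 _ c.s_mem, c.map_zpow c.s_mem, c.f_s]
    push_cast; linear_combination huv
  have e1 := c.swap (a := 2) (b := -1) (n := 1) (by norm_num)
  have e2 := c.swap (a := 3) (b := -2) (n := 1) (by norm_num)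
  have e3 := c.swap (a := 1) (b := -3) (n := -2) (by norm_num)
  have h0 : s ^ (1 : ℤ) * (u⁻¹ * v) * s ^ (1 : ℤ) * v⁻¹ * s ^ (-2 : ℤ) * u = 1 := by
    calc s ^ (1 : ℤ) * (u⁻¹ * v) * s ^ (1 : ℤ) * v⁻¹ * s ^ (-2 : ℤ) * u
        = u⁻¹ * ((u * s * u⁻¹ * (v * s * v⁻¹)) * s ^ (-2 : ℤ)) * u := by group
      _ = 1 := by rw [hR]; group
  calc _ = (t ^ (-1 : ℤ) * s ^ (2 : ℤ))⁻¹ *
        ((t ^ (-1 : ℤ) * s ^ (2 : ℤ) * t ^ (-(1 : ℤ)) * s ^ (-1 : ℤ) * t ^ (2 : ℤ)) * (u⁻¹ * v) *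
          (t ^ (-2 : ℤ) * s ^ (3 : ℤ) * t ^ (-(1 : ℤ)) * s ^ (-2 : ℤ) * t ^ (3 : ℤ)) * v⁻¹ *
          (t ^ (-3 : ℤ) * s ^ (1 : ℤ) * t ^ (-(-2 : ℤ)) * s ^ (-3 : ℤ) * t ^ (1 : ℤ)) * u) *
        (t ^ (-1 : ℤ) * s ^ (2 : ℤ)) := by group
    _ = 1 := by rw [← e1, ← e2, ← e3, h0, mul_one, inv_mul_cancel]

/-- Two words of the same shape have the same labels. -/
theorem rigid {k₁ k₂ k₃ : ℤ} (h2 : (k₂ : F) ≠ 0) (h3 : (k₃ : F) ≠ 0)
    (htwo : (2 : F) ≠ 0) {X₁ X₂ X₃ Y₁ Y₂ Y₃ : G} (hX₁ : X₁ ∈ U) (hX₂ : X₂ ∈ U) (hX₃ : X₃ ∈ U)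
    (hY₁ : Y₁ ∈ U) (hY₂ : Y₂ ∈ U) (hY₃ : Y₃ ∈ U)
    (hX : s ^ k₁ * X₁ * t ^ (-1 : ℤ) * (s ^ k₂ * X₂) * t ^ (2 : ℤ) * (s ^ k₃ * X₃) *
      t ^ (-1 : ℤ) = 1)
    (hY : s ^ k₁ * Y₁ * t ^ (-1 : ℤ) * (s ^ k₂ * Y₂) * t ^ (2 : ℤ) * (s ^ k₃ * Y₃) *
      t ^ (-1 : ℤ) = 1) : X₁ = Y₁ ∧ X₂ = Y₂ ∧ X₃ = Y₃ := by
  have hL : ∀ A B C : G, s ^ k₁ * A * t ^ (-1 : ℤ) * (s ^ k₂ * B) * t ^ (2 : ℤ) * (s ^ k₃ * C) *
      t ^ (-1 : ℤ) = 1 →
      s ^ k₂ * B * t ^ (2 : ℤ) * (s ^ k₃ * C) = t ^ (1 : ℤ) * A⁻¹ * s ^ (-k₁) * t ^ (1 : ℤ) := by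
    intro A B C h
    calc s ^ k₂ * B * t ^ (2 : ℤ) * (s ^ k₃ * C)
        = t ^ (1 : ℤ) * A⁻¹ * s ^ (-k₁) * (s ^ k₁ * A * t ^ (-1 : ℤ) * (s ^ k₂ * B) * t ^ (2 : ℤ) *
            (s ^ k₃ * C) * t ^ (-1 : ℤ)) * t ^ (1 : ℤ) := by group
      _ = _ := by rw [h, mul_one]
  set r := t ^ (1 : ℤ) * (Y₁⁻¹ * X₁) * t ^ (-1 : ℤ) with hr
  have hrU : r ∈ U := c.sigma_mem (U.mul_mem (U.inv_mem hY₁) hX₁) 1
  have hcong : (s ^ k₂ * Y₂ * t ^ (2 : ℤ) * (s ^ k₃ * Y₃)) *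
      (s ^ k₂ * X₂ * t ^ (2 : ℤ) * (s ^ k₃ * X₃))⁻¹ = r := by
    rw [hL _ _ _ hY, hL _ _ _ hX, hr]; group
  set g := s ^ k₃ * (Y₃ * X₃⁻¹) * s ^ (-k₃) with hg
  have hgt : t ^ (2 : ℤ) * g * t ^ (-2 : ℤ) = Y₂⁻¹ * (s ^ (-k₂) * r * s ^ k₂) * X₂ := by
    rw [← hcong, hg]; group
  have hs : ∀ m : ℤ, s ^ m ∈ P ⊔ U := fun m => mem_sup_left (P.zpow_mem c.s_mem m)
  have hgH : g ∈ P ⊔ U :=
    mul_mem (mul_mem (hs _) (mem_sup_right (U.mul_mem hY₃ (U.inv_mem hX₃)))) (hs _)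
  have hgU : g ∈ U := c.mem_of_conj_mem (i := 2) (by push_cast; exact htwo) hgH (by
    rw [hgt]
    exact mul_mem (mul_mem (mem_sup_right (U.inv_mem hY₂))
      (mul_mem (mul_mem (hs _) (mem_sup_right hrU)) (hs _))) (mem_sup_right hX₂))
  have e3 : Y₃ * X₃⁻¹ = 1 := c.fix h3 (U.mul_mem hY₃ (U.inv_mem hX₃)) hgU
  have hg1 : g = 1 := by rw [hg, e3]; group
  have hr2 : r = s ^ k₂ * (Y₂ * X₂⁻¹) * s ^ (-k₂) := by
    have h := hgt
    rw [hg1, mul_one, zpow_neg t (2 : ℤ), mul_inv_cancel] at h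
    calc r = s ^ k₂ * Y₂ * (Y₂⁻¹ * (s ^ (-k₂) * r * s ^ k₂) * X₂) * X₂⁻¹ * s ^ (-k₂) := by group
      _ = _ := by rw [← h]; group
  have e2 : Y₂ * X₂⁻¹ = 1 := c.fix h2 (U.mul_mem hY₂ (U.inv_mem hX₂)) (hr2 ▸ hrU)
  have e1 : Y₁⁻¹ * X₁ = 1 := by
    have h : r = 1 := by rw [hr2, e2]; group
    rw [hr, zpow_neg] at h
    exact conj_eq_one_iff.1 h
  exact ⟨(inv_mul_eq_one.1 e1).symm, (mul_inv_eq_one.1 e2).symm, (mul_inv_eq_one.1 e3).symm⟩

/-- The exponents of an unlabelled word. -/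
theorem pure_word {k₁ k₂ k₃ : ℤ} (h1 : (k₁ : F) ≠ 0)
    (hw : s ^ k₁ * t ^ (-1 : ℤ) * s ^ k₂ * t ^ (2 : ℤ) * s ^ k₃ * t ^ (-1 : ℤ) = 1) :
    (k₂ : F) = -1 := by
  classical
  have := c.comm_Q
  let Y : ℤ → Q := fun i => ⟨s ^ i * y * s ^ (-i), c.sconj_mem c.y_mem i⟩
  have hD : ∀ i m : ℤ, ((Y i * (Y (i + m))⁻¹ : Q) : G) = s ^ i * t ^ m * s ^ (-(i + m)) :=
    fun i m => by
      simp only [Y, Subgroup.coe_mul, InvMemClass.coe_inv, c.t_zpow]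
      group
  set K := k₁ + k₂ with hK
  -- exponent sum
  have hS : ((K : F)) + k₃ = 0 := by
    have h : s ^ (K + k₃) ∈ Q := by
      have e : s ^ (K + k₃) =
          ((Y k₁ * (Y (k₁ + -1))⁻¹ * (Y (K - 1) * (Y (K - 1 + 2))⁻¹) *
            (Y (K + 1 + k₃) * (Y (K + 1 + k₃ + -1))⁻¹) : Q) : G)⁻¹ := by
        rw [eq_inv_iff_mul_eq_one, Subgroup.coe_mul, Subgroup.coe_mul, hD, hD, hD]
        calc _ = s ^ (K + k₃) * (s ^ k₁ * t ^ (-1 : ℤ) * s ^ k₂ * t ^ (2 : ℤ) * s ^ k₃ *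
              t ^ (-1 : ℤ)) * s ^ (-(K + k₃)) := by rw [hK]; group
          _ = 1 := by rw [hw]; group
      rw [e]
      exact Q.inv_mem (Subtype.mem _)
    have h0 := congrArg f (c.inter_Q (P.zpow_mem c.s_mem _) h)
    rw [c.map_zpow c.s_mem, c.f_s, c.map_one] at h0
    push_cast at h0
    linear_combination h0
  have hR : ∀ j : ℤ, Y (k₁ + j) * (Y (k₁ + j + -1))⁻¹ * (Y (K - 1 + j) * (Y (K - 1 + j + 2))⁻¹) *
      (Y (1 + j) * (Y (1 + j + -1))⁻¹) = 1 := by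
    intro j
    refine Subtype.ext ?_
    rw [Subgroup.coe_mul, Subgroup.coe_mul, hD, hD, hD, OneMemClass.coe_one]
    have e : s ^ (K + 1 + k₃ + j) = s ^ (1 + j) := c.zpow_s_eq (by push_cast; linear_combination hS)
    have e' : s ^ (-(1 + j + -1)) = s ^ (-(K + k₃) - j) := c.zpow_s_eq (by
      push_cast; linear_combination hS)
    rw [← e, e']
    have e'' : s ^ (-(K + k₃) - j) = s ^ (-j) := c.zpow_s_eq (by
      push_cast; linear_combination -hS)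
    calc _ = s ^ j * (s ^ k₁ * t ^ (-1 : ℤ) * s ^ k₂ * t ^ (2 : ℤ) * s ^ k₃ *
          t ^ (-1 : ℤ)) * s ^ (-(K + k₃) - j) := by rw [hK]; group
      _ = 1 := by rw [hw, e'']; group
  let Z : ℤ → Q := fun j =>
    Y j * (Y (K + j))⁻¹ * (Y (k₁ - 1 + j) * (Y (K - 1 + j))⁻¹)
  have hstep : ∀ j, Z (j + 1) = Z j := by
    intro j
    rw [← mul_inv_eq_one]
    have h := hR j
    rw [show k₁ + j + -1 = k₁ - 1 + j by ring, show K - 1 + j + 2 = K + 1 + j by ring,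
      show 1 + j + -1 = j by ring] at h
    simp only [Z]
    rw [show K - 1 + (j + 1) = K + j by ring, show k₁ - 1 + (j + 1) = k₁ + j by ring,
      show K + (j + 1) = K + 1 + j by ring, show j + 1 = 1 + j by ring]
    rw [← h]
    generalize Y (1 + j) = A1, Y j = A0, Y (K + j) = B0, Y (K + 1 + j) = B1,
      Y (K - 1 + j) = B2, Y (k₁ - 1 + j) = C0, Y (k₁ + j) = C1
    simp only [mul_inv_rev, inv_inv]
    rw [← Additive.ofMul.injective.eq_iff]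
    simp only [ofMul_mul, ofMul_inv]
    abel
  have hZconst : ∀ j : ℕ, Z j = Z 0 := by
    intro j
    induction j with
    | zero => rfl
    | succ j ih => rw [Nat.cast_succ, hstep, ih]
  let N : ℤ → Q := fun a => ∏ j ∈ Finset.range p, Y (a + j)
  have hYper : ∀ a : ℤ, Y (a + p) = Y a := fun a => Subtype.ext (by
    show s ^ (a + p) * y * s ^ (-(a + p)) = s ^ a * y * s ^ (-a)
    rw [zpow_add, zpow_natCast, c.pow_p c.s_mem, mul_one, neg_add, zpow_add, zpow_neg s (p : ℤ),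
      zpow_natCast, c.pow_p c.s_mem, inv_one, mul_one])
  have hN1 : ∀ a, N (a + 1) = N a := by
    intro a
    have h1 := Finset.prod_range_succ (fun j : ℕ => Y (a + j)) p
    have h2 := Finset.prod_range_succ' (fun j : ℕ => Y (a + j)) p
    rw [h1, hYper] at h2
    simp only [Nat.cast_zero, add_zero] at h2
    have h3 := mul_right_cancel h2
    simp only [N]
    rw [h3]
    exact Finset.prod_congr rfl fun j _ => by push_cast; ring_nf
  have hN : ∀ a, N a = N 0 := by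
    intro a
    induction a using Int.induction_on with
    | zero => rfl
    | succ n ih => rw [hN1, ih]
    | pred n ih => rw [← hN1 (-(n : ℤ) - 1), sub_add_cancel, ih]
  have hpow : Z 0 ^ p = 1 := by
    have h1 : ∏ j ∈ Finset.range p, Z (j : ℕ) = Z 0 ^ p := by
      rw [Finset.prod_congr rfl fun j _ => hZconst j, Finset.prod_const, Finset.card_range]
    rw [← h1]
    simp only [Z, Finset.prod_mul_distrib, Finset.prod_inv_distrib]
    change (∏ j ∈ Finset.range p, Y j) * (N K)⁻¹ * (N (k₁ - 1) * (N (K - 1))⁻¹) = 1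
    rw [hN K, hN (k₁ - 1), hN (K - 1), show (∏ j ∈ Finset.range p, Y j) = N 0 from by
      simp only [N, zero_add]]
    simp
  have hZ0 : Z 0 = 1 := by
    rw [← pow_one (Z 0), ← c.card_Q.gcd_eq_one]
    exact pow_gcd_eq_one.2 ⟨pow_card_eq_one', hpow⟩
  have hmain : t ^ (K - 1) * s ^ (-(K - 1)) =
      s ^ K * t ^ (k₁ - 1 - K) * s ^ (-(k₁ - 1)) := by
    have h : Y 0 * (Y (K - 1))⁻¹ = Y K * (Y (k₁ - 1))⁻¹ := by
      rw [← mul_inv_eq_one, ← hZ0]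
      simp only [Z, add_zero]
      generalize Y 0 = A0, Y K = B0, Y (K - 1) = B2, Y (k₁ - 1) = C0
      simp only [mul_inv_rev, inv_inv]
      rw [← Additive.ofMul.injective.eq_iff]
      simp only [ofMul_mul, ofMul_inv]
      abel
    have h' := congrArg Subtype.val h
    have e1 := hD 0 (K - 1)
    have e2 := hD K (k₁ - 1 - K)
    rw [zero_add] at e1
    rw [show K + (k₁ - 1 - K) = k₁ - 1 by ring] at e2
    rw [e1, e2, zpow_zero, one_mul] at h'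
    exact h'
  by_contra hk2
  have hl : ((k₁ - 1 - K : ℤ) : F) ≠ 0 := fun h => hk2 (by
    rw [hK] at h; push_cast at h; linear_combination -h)
  obtain ⟨X, hX, hX1⟩ := c.exists_ne_one
  rcases eq_or_ne (K : F) 0 with hK0 | hK0
  · have e : t ^ (K - 1 - (k₁ - 1 - K)) = s ^ (K - 1 - (k₁ - 1 - K)) := by
      have h1 : s ^ (-(k₁ - 1)) = s ^ (-(k₁ - 1 - K)) :=
        c.zpow_s_eq (by push_cast; linear_combination -hK0)
      have h2 : s ^ K = 1 := by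
        rw [c.zpow_s_eq (b := 0) (by push_cast; exact hK0), zpow_zero]
      rw [h2, one_mul, h1] at hmain
      calc t ^ (K - 1 - (k₁ - 1 - K))
          = t ^ (-(k₁ - 1 - K)) * (t ^ (K - 1) * s ^ (-(K - 1))) * s ^ (K - 1) := by group
        _ = s ^ (K - 1 - (k₁ - 1 - K)) := by rw [hmain]; group
    refine hX1 (c.fix (k := K - 1 - (k₁ - 1 - K)) ?_ hX ?_)
    · intro h0
      push_cast at h0
      exact h1 (by linear_combination -h0 + 2 * hK0)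
    · have := c.sigma_mem hX (K - 1 - (k₁ - 1 - K))
      rw [zpow_neg] at this ⊢
      rwa [e] at this
  · set m := K - 1 with hm
    set l := k₁ - 1 - K with hl'
    set e := -(k₁ - 1) + m with he
    have hmain' : t ^ m = s ^ K * t ^ l * s ^ e := by
      calc t ^ m = (t ^ m * s ^ (-m)) * s ^ m := by group
        _ = _ := by rw [hmain, he]; group
    set g := s ^ e * X * s ^ (-e) with hg
    have hgt : t ^ l * g * t ^ (-l) = s ^ (-K) * (t ^ m * X * t ^ (-m)) * s ^ K := by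
      rw [zpow_neg t m, hmain', hg]; group
    have hs : ∀ m : ℤ, s ^ m ∈ P ⊔ U := fun m => mem_sup_left (P.zpow_mem c.s_mem m)
    have hgU : g ∈ U := c.mem_of_conj_mem hl (mul_mem (mul_mem (hs _) (mem_sup_right hX)) (hs _))
      (by rw [hgt]; exact mul_mem (mul_mem (hs _) (mem_sup_right (c.sigma_mem hX m))) (hs _))
    have h5 := c.sigma_mem hgU l
    rw [hgt] at h5
    have h6 := c.fix (k := -K) (by push_cast; exact neg_ne_zero.2 hK0) (c.sigma_mem hX m)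
      (by rwa [neg_neg])
    rw [zpow_neg] at h6
    exact hX1 (conj_eq_one_iff.1 h6)

/-- The operation `v ↦ (t ^ 3 v t⁻³)⁻¹` preserves the pairs. -/
theorem step (hp2 : p ≠ 2) (hp3 : p ≠ 3) {u v : G} (hu : u ∈ U) (hv : v ∈ U)
    (huv : ψ u + ψ v = 2) :
    ψ (t ^ (3 : ℤ) * v⁻¹ * t ^ (-3 : ℤ)) ∈ pairSet p q F := by
  have hpp : p.Prime := Fact.out
  have hnat : ∀ m : ℕ, m.Prime → m ≠ p → (m : F) ≠ 0 := fun m hm hne h => hne
    ((Nat.prime_dvd_prime_iff_eq hpp hm).1 ((CharP.cast_eq_zero_iff F p m).1 h)).symm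
  have h2 : (2 : F) ≠ 0 := by exact_mod_cast hnat 2 Nat.prime_two hp2.symm
  have h3 : (3 : F) ≠ 0 := by exact_mod_cast hnat 3 Nat.prime_three hp3.symm
  have hbr : ∀ {x : G}, x ∈ U → ∀ i j : ℤ, (j : F) ≠ 0 → ((i + j : ℤ) : F) ≠ 0 →
      ∃ k : ℤ, (k : F) ≠ 0 ∧ ∃ a ∈ U, (i : F) + j * ψ x = k * ψ a ∧
        (i : F) + j * ψ (x ^ p) = k * ψ (a ^ p) := by
    intro x hx i j hj hij
    have hne : (i : F) + j * ψ x ≠ 0 := by
      intro h0
      have hfr := congrArg (frobenius F p) h0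
      rw [_root_.map_zero, _root_.map_add, _root_.map_mul, map_intCast, map_intCast,
        frobenius_def] at hfr
      have hx1 := c.eq_one_of_psi_pow_p hx (mul_left_cancel₀ hj (by linear_combination hfr - h0))
      rw [hx1, c.psi_one, mul_one] at h0
      exact hij (by push_cast; exact h0)
    obtain ⟨k, hk, a, ha, he⟩ := c.exists_decomp hne
    refine ⟨k, hk, a, ha, he, ?_⟩
    have h := congrArg (frobenius F p) he
    rw [_root_.map_add, _root_.map_mul, _root_.map_mul, map_intCast, map_intCast, map_intCast,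
      frobenius_def, frobenius_def] at h
    rw [c.psi_pow hx, c.psi_pow ha, h]
  set x₁ := t ^ (2 : ℤ) * (u⁻¹ * v) * t ^ (-2 : ℤ) with hx₁
  set x₂ := t ^ (3 : ℤ) * v⁻¹ * t ^ (-3 : ℤ) with hx₂
  set x₃ := t ^ (1 : ℤ) * u * t ^ (-1 : ℤ) with hx₃
  have hx₁U : x₁ ∈ U := c.sigma_mem (U.mul_mem (U.inv_mem hu) hv) 2
  have hx₂U : x₂ ∈ U := c.sigma_mem (U.inv_mem hv) 3
  have hx₃U : x₃ ∈ U := c.sigma_mem hu 1
  obtain ⟨k₁, hk₁, a₁, ha₁, e₁, e₁'⟩ :=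
    hbr hx₁U (-1) 3 (by push_cast; exact h3) (by norm_num; exact h2)
  obtain ⟨k₂, hk₂, a₂, ha₂, e₂, e₂'⟩ :=
    hbr hx₂U (-2) 1 (by simp) (by norm_num)
  obtain ⟨k₃, hk₃, a₃, ha₃, e₃, e₃'⟩ :=
    hbr hx₃U (-3) 2 (by push_cast; exact h2) (by norm_num)
  set X₁ := a₁⁻¹ * x₁ * (t ^ (-1 : ℤ) * a₂ * t ^ (1 : ℤ)) with hX₁
  set X₂ := a₂⁻¹ * x₂ * (t ^ (2 : ℤ) * a₃ * t ^ (-2 : ℤ)) with hX₂
  set X₃ := a₃⁻¹ * x₃ * (t ^ (-1 : ℤ) * a₁ * t ^ (1 : ℤ)) with hX₃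
  have hpow : ∀ {a x b : G}, a ∈ U → x ∈ U → b ∈ U → ∀ i : ℤ, t ^ i * b * t ^ (-i) ∈ U →
      (a⁻¹ * x * (t ^ i * b * t ^ (-i))) ^ p = (a ^ p)⁻¹ * x ^ p * (t ^ i * b ^ p * t ^ (-i)) := by
    intro a x b ha hx _ i hb
    rw [(c.comm_U (U.mul_mem (U.inv_mem ha) hx) hb).mul_pow,
      (c.comm_U (U.inv_mem ha) hx).mul_pow, inv_pow]
    congr 1
    rw [zpow_neg, conj_pow]
  have hneg : t ^ (1 : ℤ) = t ^ (-(-1 : ℤ)) := by rw [neg_neg]
  have hX₁U : X₁ ∈ U := by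
    rw [hX₁, hneg]; exact U.mul_mem (U.mul_mem (U.inv_mem ha₁) hx₁U) (c.sigma_mem ha₂ (-1))
  have hX₂U : X₂ ∈ U := U.mul_mem (U.mul_mem (U.inv_mem ha₂) hx₂U) (c.sigma_mem ha₃ 2)
  have hX₃U : X₃ ∈ U := by
    rw [hX₃, hneg]; exact U.mul_mem (U.mul_mem (U.inv_mem ha₃) hx₃U) (c.sigma_mem ha₁ (-1))
  have hW : ∀ {x y' z b₁ b₂ b₃ : G}, x ∈ U → y' ∈ U → z ∈ U → b₁ ∈ U → b₂ ∈ U → b₃ ∈ U →
      (-1 : F) + 3 * ψ x = k₁ * ψ b₁ → (-2 : F) + 1 * ψ y' = k₂ * ψ b₂ →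
      (-3 : F) + 2 * ψ z = k₃ * ψ b₃ →
      t ^ (-1 : ℤ) * (s ^ (-1 : ℤ) * x * s ^ (3 : ℤ)) * t ^ (-1 : ℤ) *
        (s ^ (-2 : ℤ) * y' * s ^ (1 : ℤ)) * t ^ (2 : ℤ) * (s ^ (-3 : ℤ) * z * s ^ (2 : ℤ)) = 1 →
      s ^ k₁ * (b₁⁻¹ * x * (t ^ (-1 : ℤ) * b₂ * t ^ (1 : ℤ))) * t ^ (-1 : ℤ) *
        (s ^ k₂ * (b₂⁻¹ * y' * (t ^ (2 : ℤ) * b₃ * t ^ (-2 : ℤ)))) * t ^ (2 : ℤ) *
        (s ^ k₃ * (b₃⁻¹ * z * (t ^ (-1 : ℤ) * b₁ * t ^ (1 : ℤ)))) * t ^ (-1 : ℤ) = 1 := by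
    intro x y' z b₁ b₂ b₃ hx hy hz hb₁ hb₂ hb₃ f₁ f₂ f₃ h
    rw [c.word hx hb₁ (i := -1) (j := 3) (k := k₁) (by push_cast; exact f₁),
      c.word hy hb₂ (i := -2) (j := 1) (k := k₂) (by push_cast; exact f₂),
      c.word hz hb₃ (i := -3) (j := 2) (k := k₃) (by push_cast; exact f₃)] at h
    calc _ = (t ^ (-1 : ℤ) * b₁)⁻¹ *
          (t ^ (-1 : ℤ) * (b₁ * s ^ k₁ * (b₁⁻¹ * x)) * t ^ (-1 : ℤ) *
            (b₂ * s ^ k₂ * (b₂⁻¹ * y')) * t ^ (2 : ℤ) * (b₃ * s ^ k₃ * (b₃⁻¹ * z))) *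
          (t ^ (-1 : ℤ) * b₁) := by group
      _ = 1 := by rw [h]; group
  have hA := hW hx₁U hx₂U hx₃U ha₁ ha₂ ha₃ (by exact_mod_cast e₁) (by exact_mod_cast e₂)
    (by exact_mod_cast e₃) (c.triangle hu hv huv)
  have hB := hW (U.pow_mem hx₁U p) (U.pow_mem hx₂U p) (U.pow_mem hx₃U p) (U.pow_mem ha₁ p)
    (U.pow_mem ha₂ p) (U.pow_mem ha₃ p) (by exact_mod_cast e₁') (by exact_mod_cast e₂')
    (by exact_mod_cast e₃') (by
      have hup := U.pow_mem hu p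
      have hvp := U.pow_mem hv p
      have h := c.triangle hup hvp (by
        rw [c.psi_pow hu, c.psi_pow hv, ← add_pow_char, huv, ← frobenius_def, map_ofNat])
      rw [hx₁, hx₂, hx₃]
      simp only [zpow_neg] at h ⊢
      simp only [conj_pow, (c.comm_U (U.inv_mem hu) hv).mul_pow, inv_pow]
      exact h)
  rw [← hX₁, ← hX₂, ← hX₃] at hA
  have f₁ := hpow ha₁ hx₁U ha₂ (-1) (c.sigma_mem ha₂ _)
  have f₂ := hpow ha₂ hx₂U ha₃ 2 (c.sigma_mem ha₃ _)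
  have f₃ := hpow ha₃ hx₃U ha₁ (-1) (c.sigma_mem ha₁ _)
  rw [neg_neg] at f₁ f₃
  rw [← hX₁] at f₁; rw [← hX₂] at f₂; rw [← hX₃] at f₃
  rw [← f₁, ← f₂, ← f₃] at hB
  obtain ⟨r₁, r₂, r₃⟩ := c.rigid hk₂ hk₃ h2 hX₁U hX₂U hX₃U (U.pow_mem hX₁U p)
    (U.pow_mem hX₂U p) (U.pow_mem hX₃U p) hA hB
  rw [c.eq_one_of_pow_p hX₁U r₁.symm, c.eq_one_of_pow_p hX₂U r₂.symm,
    c.eq_one_of_pow_p hX₃U r₃.symm] at hA
  simp only [mul_one] at hA
  have hk := c.pure_word hk₁ hA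
  refine ⟨c.psi_normOne hx₂U, ?_⟩
  have : 2 - ψ x₂ = ψ a₂ := by
    rw [hk] at e₂; push_cast at e₂; linear_combination -e₂
  rw [this]
  exact c.psi_normOne ha₂

theorem symmetric (hp2 : p ≠ 2) (hp3 : p ≠ 3) :
    ∀ a ∈ pairSet p q F, a⁻¹ ∈ pairSet p q F := by
  intro a ha
  obtain ⟨v, hv, rfl⟩ := c.exists_psi ha.1
  have key : ∀ m : ℕ, ψ ((t ^ (3 * m : ℤ) * v * t ^ (-(3 * m : ℤ))) ^ ((-1 : ℤ) ^ m)) ∈
      pairSet p q F := by
    intro m
    induction m with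
    | zero => simpa using ha
    | succ m ih =>
      set w := (t ^ (3 * m : ℤ) * v * t ^ (-(3 * m : ℤ))) ^ ((-1 : ℤ) ^ m) with hw
      have hwU : w ∈ U := U.zpow_mem (c.sigma_mem hv _) _
      obtain ⟨u, hu, hpu⟩ := c.exists_psi ih.2
      have h := c.step hp2 hp3 hu hwU (by rw [hpu]; ring)
      convert h using 2
      rw [hw, ← zpow_neg, zpow_neg t (3 * (m : ℤ)), zpow_neg t (3 : ℤ), ← conj_zpow,
        pow_succ, mul_neg_one]
      congr 1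
      push_cast
      rw [mul_add, mul_one, zpow_neg, zpow_add]
      group
  have hpp : p.Prime := Fact.out
  have h := key p
  have e : t ^ (3 * p : ℤ) = 1 := by
    rw [c.zpow_t_eq (b := 0) (by push_cast; rw [CharP.cast_eq_zero]; ring), zpow_zero]
  rw [zpow_neg, e, inv_one, one_mul, mul_one, (hpp.odd_of_ne_two hp2).neg_one_pow,
    zpow_neg_one, c.psi_inv hv] at h
  exact h

end Config

end CfsgLib.AppendixC
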