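import Cfsg.Agent.Lib.AppendixC.Symmetric

/-!
The set `pairSet` has at least two elements: for `q = 3` by an explicit irreducible cubic, for
`q ≥ 5` by a character sum estimate.
-/

set_option autoImplicit false

namespace CfsgLib.AppendixC

variable {F : Type*} [Field F] [Fintype F] {p q : ℕ} [Fact p.Prime]

theorem normExp_le_card_filter [DecidableEq F] (hF : Fintype.card F = p ^ q) (hq : 1 ≤ q) :
    normExp p q ≤ (Finset.univ.filter fun a : F => a ^ normExp p q = 1).card := by
  classical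
  have hp := (Fact.out : p.Prime).two_le
  obtain ⟨g, hg⟩ := IsCyclic.exists_ofOrder_eq_natCard (α := Fˣ)
  rw [Nat.card_units, Nat.card_eq_fintype_card, hF, ← normExp_mul] at hg
  have hn : 0 < normExp p q := lt_of_lt_of_le (pow_pos (by omega) _) (le_normExp hp hq)
  set h := g ^ (p - 1) with hh
  have ho : orderOf h = normExp p q := by
    rw [hh, orderOf_pow' g (by omega), hg, Nat.gcd_eq_right (dvd_mul_left _ _),
      Nat.mul_div_cancel _ (by omega)]
  calc normExp p q = ((Finset.range (normExp p q)).image fun i => ((h ^ i : Fˣ) : F)).card := by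
        rw [Finset.card_image_of_injOn, Finset.card_range]
        intro i hi j hj hij
        simp only [Finset.coe_range, Set.mem_Iio] at hi hj
        exact pow_injOn_Iio_orderOf (by rwa [ho]) (by rwa [ho]) (Units.ext hij)
    _ ≤ _ := Finset.card_le_card fun a ha => by
        obtain ⟨i, -, rfl⟩ := Finset.mem_image.1 ha
        rw [Finset.mem_filter]
        refine ⟨Finset.mem_univ _, ?_⟩
        rw [← Units.val_pow_eq_pow_val, ← pow_mul, mul_comm, pow_mul, ← ho, pow_orderOf_eq_one,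
          one_pow, Units.val_one]

theorem card_normOne_sq_le {a : ℕ} [DecidableEq F] (hq : 1 ≤ q) (h2F : (2 : F) ≠ 0)
    (ha : ((Finset.univ.filter fun x : F => x ^ normExp p q = 1).filter
      fun x => (2 - x) ^ normExp p q = 1).card ≤ a) :
    ((Finset.univ.filter fun x : F => x ^ normExp p q = 1).card : ℝ) ^ 2 ≤
      (a : ℝ) * Fintype.card F + (Fintype.card F : ℝ) * Real.sqrt (Fintype.card F) := by
  classical
  set U := Finset.univ.filter fun x : F => x ^ normExp p q = 1 with hUdef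
  set E := U.filter fun x => (2 - x) ^ normExp p q = 1 with hE
  let : Fintype (AddChar F ℂ) := Fintype.ofFinite _
  let S : AddChar F ℂ → ℂ := fun ψ => ∑ u ∈ U, ψ u
  set N := Fintype.card F with hN
  set T := ∑ ψ ∈ Finset.univ.erase (1 : AddChar F ℂ), S ψ * S ψ * ψ (-2) with hT
  -- the number of pairs
  have htot : (∑ ψ : AddChar F ℂ, S ψ * S ψ * ψ (-2)) = (N : ℂ) * E.card := by
    have h1 : ∀ ψ : AddChar F ℂ, S ψ * S ψ * ψ (-2) = ∑ u ∈ U, ∑ v ∈ U, ψ (u + v + -2) := by
      intro ψ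
      simp only [S]
      rw [Finset.sum_mul_sum]
      simp only [Finset.sum_mul, AddChar.map_add_eq_mul]
    simp only [h1]
    rw [Finset.sum_comm]
    have h2 : ∀ u ∈ U, (∑ ψ : AddChar F ℂ, ∑ v ∈ U, ψ (u + v + -2)) =
        if (2 - u) ^ normExp p q = 1 then (N : ℂ) else 0 := by
      intro u _
      rw [Finset.sum_comm]
      simp only [AddChar.sum_apply_eq_ite]
      have h3 : ∀ v : F, (u + v + -2 = 0) = (v = 2 - u) := fun v => propext
        ⟨fun h => by linear_combination h, fun h => by rw [h]; ring⟩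
      simp only [h3, Finset.sum_ite_eq', hUdef, Finset.mem_filter, Finset.mem_univ, true_and]
      rfl
    rw [Finset.sum_congr rfl h2, ← Finset.sum_filter, Finset.sum_const, nsmul_eq_mul, mul_comm]
  -- Parseval
  have hpars : (∑ ψ : AddChar F ℂ, Complex.normSq (S ψ)) = (N : ℝ) * U.card := by
    have h1 : ∀ ψ : AddChar F ℂ, (Complex.normSq (S ψ) : ℂ) = ∑ u ∈ U, ∑ v ∈ U, ψ (u + -v) := by
      intro ψ
      rw [← Complex.mul_conj]
      simp only [S, map_sum, Finset.sum_mul_sum, AddChar.map_add_eq_mul, AddChar.map_neg_eq_conj]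
    have : ((∑ ψ : AddChar F ℂ, Complex.normSq (S ψ) : ℝ) : ℂ) = ((N : ℝ) * U.card : ℝ) := by
      push_cast
      simp only [h1]
      rw [Finset.sum_comm]
      have h2 : ∀ u ∈ U, (∑ ψ : AddChar F ℂ, ∑ v ∈ U, ψ (u + -v)) = (N : ℂ) := by
        intro u hu
        rw [Finset.sum_comm]
        simp only [AddChar.sum_apply_eq_ite, ← sub_eq_add_neg, sub_eq_zero]
        rw [Finset.sum_ite_eq, if_pos hu]
      rw [Finset.sum_congr rfl h2, Finset.sum_const, nsmul_eq_mul, mul_comm]
    exact_mod_cast this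
  have hU0 : ∀ u ∈ U, u ≠ 0 := by
    intro u hu h
    simp only [hUdef, Finset.mem_filter, Finset.mem_univ, true_and] at hu
    rw [h] at hu
    have h1 : 0 < normExp p q :=
      lt_of_lt_of_le (pow_pos (Fact.out : p.Prime).pos _) (le_normExp (Fact.out : p.Prime).two_le hq)
    rw [zero_pow h1.ne'] at hu
    exact zero_ne_one hu
  have hmul : ∀ u ∈ U, ∀ v : F, u * v ∈ U ↔ v ∈ U := by
    intro u hu v
    simp only [hUdef, Finset.mem_filter, Finset.mem_univ, true_and] at hu ⊢
    rw [mul_pow, hu, one_mul]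
  have hshift : ∀ u ∈ U, ∀ ψ : AddChar F ℂ, S (ψ.mulShift u) = S ψ := by
    intro u hu ψ
    simp only [S, AddChar.mulShift_apply]
    refine Finset.sum_nbij' (fun x => u * x) (fun x => u⁻¹ * x) (fun x hx => (hmul u hu x).2 hx)
      (fun x hx => (hmul u hu _).1 (by rwa [← mul_assoc, mul_inv_cancel₀ (hU0 u hu), one_mul]))
      (fun x _ => by simp [hU0 u hu])
      (fun x _ => by simp [hU0 u hu]) (fun x _ => rfl)
  have hbound : ∀ ψ : AddChar F ℂ, ψ ≠ 1 → Complex.normSq (S ψ) ≤ N := by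
    intro ψ hψ
    rcases U.eq_empty_or_nonempty with h | h
    · simp [S, h]
    have hinj : Set.InjOn (fun u => ψ.mulShift u) (U : Set F) := fun a _ b _ hab =>
      AddChar.to_mulShift_inj_of_isPrimitive (AddChar.IsPrimitive.of_ne_one hψ) hab
    have h1 : (U.card : ℝ) * Complex.normSq (S ψ) ≤ (N : ℝ) * U.card := by
      rw [← hpars]
      calc (U.card : ℝ) * Complex.normSq (S ψ)
          = ∑ χ ∈ U.image (fun u => ψ.mulShift u), Complex.normSq (S χ) := by
            rw [Finset.sum_image hinj, Finset.sum_congr rfl fun u hu => by rw [hshift u hu ψ],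
              Finset.sum_const, nsmul_eq_mul]
        _ ≤ _ := Finset.sum_le_univ_sum_of_nonneg fun χ => Complex.normSq_nonneg _
    have h0 : (0 : ℝ) < U.card := by exact_mod_cast h.card_pos
    exact le_of_mul_le_mul_left (by linarith) h0
  -- the error term
  have hT2 : ∀ u ∈ U, T = ∑ ψ ∈ Finset.univ.erase (1 : AddChar F ℂ), S ψ * S ψ * ψ (-2 * u) := by
    intro u hu
    have hu0 := hU0 u hu
    have hne : ∀ (a : F), a ≠ 0 → ∀ ψ : AddChar F ℂ, ψ ≠ 1 → ψ.mulShift a ≠ 1 :=
      fun a ha ψ hψ => AddChar.IsPrimitive.of_ne_one hψ ha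
    refine (Finset.sum_nbij' (fun ψ => ψ.mulShift u) (fun ψ => ψ.mulShift u⁻¹) ?_ ?_ ?_ ?_ ?_).symm
    · intro ψ hψ
      rw [Finset.mem_erase] at hψ ⊢
      refine ⟨?_, Finset.mem_univ _⟩
      exact hne u hu0 ψ hψ.1
    · intro ψ hψ
      rw [Finset.mem_erase] at hψ ⊢
      refine ⟨?_, Finset.mem_univ _⟩
      exact hne _ (inv_ne_zero hu0) ψ hψ.1
    · intro ψ _; simp [AddChar.mulShift_mulShift, hu0, AddChar.mulShift_one]
    · intro ψ _; simp [AddChar.mulShift_mulShift, hu0, AddChar.mulShift_one]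
    · intro ψ _
      rw [hshift u hu ψ, AddChar.mulShift_apply, mul_comm u (-2)]
  have hTbound : (U.card : ℝ) * ‖T‖ ≤ (N : ℝ) * U.card * Real.sqrt N := by
    have h1 : (U.card : ℂ) * T = ∑ ψ ∈ Finset.univ.erase (1 : AddChar F ℂ),
        S ψ * S ψ * ∑ u ∈ U, ψ (-2 * u) := by
      simp only [Finset.mul_sum]
      rw [Finset.sum_comm, ← Finset.sum_congr rfl hT2, Finset.sum_const, nsmul_eq_mul]
    have h2 : ∀ ψ ∈ Finset.univ.erase (1 : AddChar F ℂ),
        ‖S ψ * S ψ * ∑ u ∈ U, ψ (-2 * u)‖ ≤ Complex.normSq (S ψ) * Real.sqrt N := by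
      intro ψ hψ
      rw [norm_mul, norm_mul, Complex.normSq_eq_norm_sq, ← pow_two]
      gcongr
      have h3 := hbound (ψ.mulShift (-2)) (AddChar.IsPrimitive.of_ne_one
        (Finset.ne_of_mem_erase hψ) (neg_ne_zero.2 h2F))
      rw [Complex.normSq_eq_norm_sq] at h3
      exact Real.le_sqrt_of_sq_le (by simpa [S, AddChar.mulShift_apply] using h3)
    calc (U.card : ℝ) * ‖T‖ = ‖(U.card : ℂ) * T‖ := by rw [norm_mul, Complex.norm_natCast]
      _ ≤ ∑ ψ ∈ Finset.univ.erase (1 : AddChar F ℂ), Complex.normSq (S ψ) * Real.sqrt N := by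
        rw [h1]; exact (norm_sum_le _ _).trans (Finset.sum_le_sum h2)
      _ ≤ (∑ ψ : AddChar F ℂ, Complex.normSq (S ψ)) * Real.sqrt N := by
        rw [← Finset.sum_mul]
        exact mul_le_mul_of_nonneg_right
          (Finset.sum_le_univ_sum_of_nonneg fun χ => Complex.normSq_nonneg _) (Real.sqrt_nonneg _)
      _ = _ := by rw [hpars]
  rcases U.eq_empty_or_nonempty with h | h
  · rw [h, Finset.card_empty, Nat.cast_zero, zero_pow two_ne_zero]
    positivity
  have h0 : (0 : ℝ) < U.card := by exact_mod_cast h.card_pos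
  have hT3 : ‖T‖ ≤ (N : ℝ) * Real.sqrt N :=
    le_of_mul_le_mul_left (hTbound.trans_eq (by ring)) h0
  have hS1 : S 1 = U.card := by simp [S]
  have heq : (N : ℂ) * E.card = (U.card : ℂ) ^ 2 + T := by
    rw [← htot, ← Finset.add_sum_erase _ _ (Finset.mem_univ (1 : AddChar F ℂ)), hS1,
      AddChar.one_apply, mul_one, pow_two]
  have h5 : (U.card : ℝ) ^ 2 ≤ (N : ℝ) * E.card + ‖T‖ := by
    have h6 : ‖(U.card : ℂ) ^ 2‖ ≤ ‖(N : ℂ) * E.card‖ + ‖T‖ := by
      rw [show (U.card : ℂ) ^ 2 = (N : ℂ) * E.card - T by rw [heq]; ring]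
      exact norm_sub_le _ _
    simpa [norm_pow, norm_mul, Complex.norm_natCast] using h6
  have h7 : (E.card : ℝ) ≤ a := by exact_mod_cast ha
  have h8 : (0 : ℝ) ≤ N := Nat.cast_nonneg _
  nlinarith

end CfsgLib.AppendixC
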