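import Cfsg.Agent.Lib.AppendixC.Symmetric

/-!
Translation between `Algebra.norm` on the Galois field and powers.
-/

set_option autoImplicit false

namespace CfsgLib.AppendixC

theorem norm_eq_one_iff {p q : ℕ} [Fact p.Prime] (hq : q ≠ 0) (a : GaloisField p q) :
    Algebra.norm (ZMod p) a = 1 ↔ a ^ normExp p q = 1 := by
  have h := FiniteField.algebraMap_norm_eq_pow (K := ZMod p) (x := a)
  rw [GaloisField.card p q hq, Nat.card_zmod] at h
  rw [normExp, ← h, map_eq_one_iff _ (algebraMap (ZMod p) (GaloisField p q)).injective]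

theorem setOf_norm_eq_pairSet {p q : ℕ} [Fact p.Prime] (hq : q ≠ 0) :
    {a : GaloisField p q | Algebra.norm (ZMod p) a = 1 ∧ Algebra.norm (ZMod p) (2 - a) = 1} =
      pairSet p q (GaloisField p q) := by
  ext a
  simp [pairSet, norm_eq_one_iff hq]

end CfsgLib.AppendixC
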