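import Cfsg.Agent.Lib.AppendixC.Count

/-!
`pairSet` contains an element other than `1`.
-/

set_option autoImplicit false

namespace CfsgLib.AppendixC

open Polynomial

variable {F : Type*} [Field F] [Fintype F] {p q : ℕ} [Fact p.Prime]

omit [Fintype F] in
/-- The fixed points of `x ↦ x ^ p` are the prime field. -/
theorem exists_natCast_of_pow_eq {K : Type*} [Field K] [CharP K p] {x : K} (h : x ^ p = x) :
    ∃ k : ℕ, (k : K) = x := by
  classical
  by_contra! hne
  have hp1 := (Fact.out : p.Prime).one_lt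
  have hdeg : ((X : K[X]) ^ p - X).natDegree = p := by
    rw [natDegree_sub_eq_left_of_natDegree_lt (by rw [natDegree_X_pow, natDegree_X]; exact hp1),
      natDegree_X_pow]
  have h0 : ((X : K[X]) ^ p - X) = 0 := by
    refine eq_zero_of_natDegree_lt_card_of_eval_eq_zero _
      (f := fun o : Option (Fin p) => o.elim x fun k => ((k : ℕ) : K)) ?_ ?_ ?_
    · rintro (_ | i) (_ | j) hij
      · rfl
      · exact absurd hij.symm (hne _)
      · exact absurd hij (hne _)
      · exact congrArg some (Fin.ext (CharP.natCast_injOn_Iio K p i.2 j.2 hij))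
    · rintro (_ | i)
      · simp [h]
      · have := map_natCast (frobenius K p) (i : ℕ)
        rw [frobenius_def] at this
        simp [this]
    · rw [hdeg, Fintype.card_option, Fintype.card_fin]; omega
  rw [h0, natDegree_zero] at hdeg
  omega

omit [Fintype F] in
theorem exists_cubic_root (hF : Nat.card F = p ^ 3) (hp : p ≠ 2) :
    ∃ a : F, a ∈ pairSet p 3 F ∧ a ≠ 1 := by
  classical
  have hpp : p.Prime := Fact.out
  set g : ZMod p → ZMod p := fun x => x + (x - 1) / (x * (x - 2)) with hg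
  obtain ⟨c, hc⟩ : ∃ c : ZMod p, ∀ x, x ≠ 0 → x ≠ 2 → g x ≠ c := by
    set S := (Finset.univ.erase (0 : ZMod p)).erase 2
    have hlt : (S.image g).card < (Finset.univ : Finset (ZMod p)).card := by
      refine Finset.card_image_le.trans_lt (lt_of_le_of_lt (Finset.card_erase_le) ?_)
      exact Finset.card_erase_lt_of_mem (Finset.mem_univ _)
    obtain ⟨c, -, hc⟩ := Finset.exists_mem_notMem_of_card_lt_card hlt
    exact ⟨c, fun x h0 h2 hx => hc (Finset.mem_image.2 ⟨x, by simp [S, h0, h2], hx⟩)⟩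
  have h2 : (2 : ZMod p) ≠ 0 := Ring.two_ne_zero (by rwa [ZMod.ringChar_zmod_n])
  set f : (ZMod p)[X] := X ^ 3 + Polynomial.C (-(2 + c)) * X ^ 2 + Polynomial.C (2 * c + 1) * X +
    Polynomial.C (-1) with hf
  have hnot : ∀ x : ZMod p, ¬ IsRoot f x := by
    intro x hx
    rw [IsRoot, hf] at hx
    simp only [eval_add, eval_pow, eval_X, eval_mul, eval_C] at hx
    rcases eq_or_ne x 0 with rfl | h0
    · simp at hx
    rcases eq_or_ne x 2 with rfl | hx2
    · exact one_ne_zero (α := ZMod p) (by linear_combination hx)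
    · refine hc x h0 hx2 ?_
      have : x * (x - 2) ≠ 0 := mul_ne_zero h0 (sub_ne_zero.2 hx2)
      simp only [hg]
      field_simp
      linear_combination hx
  have hdeg : f.natDegree = 3 := by rw [hf]; compute_degree!
  have hirr : Fact (Irreducible f) :=
    ⟨irreducible_of_degree_le_three_of_not_isRoot (by simp [hdeg]) hnot⟩
  have hf0 : f ≠ 0 := hirr.out.ne_zero
  have : Finite (AdjoinRoot f) :=
    have := (AdjoinRoot.powerBasis hf0).finite
    Module.finite_of_finite (ZMod p)
  have hK : Nat.card (AdjoinRoot f) = p ^ 3 := by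
    have := (AdjoinRoot.powerBasis hf0).finite
    rw [Module.natCard_eq_pow_finrank (K := ZMod p), (AdjoinRoot.powerBasis hf0).finrank,
      AdjoinRoot.powerBasis_dim, hdeg, Nat.card_zmod]
  have : Fintype (AdjoinRoot f) := Fintype.ofFinite _
  have : CharP (AdjoinRoot f) p := charP_of_injective_algebraMap (AdjoinRoot.of f).injective p
  set r := AdjoinRoot.root f with hr
  set C' : AdjoinRoot f := AdjoinRoot.of f c with hC'
  have hfr : r ^ 3 + -(2 + C') * r ^ 2 + (2 * C' + 1) * r + -1 = 0 := by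
    have h := AdjoinRoot.eval₂_root f
    simpa [hf, hr, hC', map_ofNat] using h
  have hC'p : C' ^ p = C' := by rw [hC', ← map_pow, ZMod.pow_card]
  set r1 := r ^ p with hr1
  set r2 := r1 ^ p with hr2
  have hfix : ∀ y : AdjoinRoot f, y ^ 3 + -(2 + C') * y ^ 2 + (2 * C' + 1) * y + -1 = 0 →
      (y ^ p) ^ 3 + -(2 + C') * (y ^ p) ^ 2 + (2 * C' + 1) * y ^ p + -1 = 0 := by
    intro y hy
    have h := congrArg (frobenius (AdjoinRoot f) p) hy
    rw [map_zero] at h
    simp only [map_add, map_mul, map_neg, map_pow, map_one, map_ofNat, frobenius_def, hC'p] at h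
    exact h
  have hf1 := hfix r hfr
  have hf2 := hfix r1 hf1
  rw [← hr1] at hf1
  rw [← hr2] at hf2
  have hrp : r1 ≠ r := by
    intro h
    obtain ⟨d, hd⟩ := exists_natCast_of_pow_eq (p := p) h
    refine hnot (d : ZMod p) ?_
    rw [IsRoot, ← map_eq_zero_iff _ (AdjoinRoot.of f).injective]
    simp only [hf, eval_add, eval_pow, eval_X, eval_mul, eval_C, eval_neg, eval_one, eval_ofNat,
      map_add, map_mul, map_pow, map_neg, map_one, map_ofNat, map_natCast, ← hC', hd]
    exact hfr
  have hr3 : r2 ^ p = r := by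
    rw [hr2, hr1, ← pow_mul, ← pow_mul]
    have h := FiniteField.pow_card r
    rw [← Nat.card_eq_fintype_card, hK] at h
    convert h using 2
    ring
  have hr20 : r2 ≠ r := by
    intro h
    exact hrp (by rw [hr1]; nth_rw 2 [← hr3]; rw [h])
  have hr21 : r2 ≠ r1 := by
    intro h
    exact hrp (frobenius_inj (AdjoinRoot f) p (by simpa [frobenius_def, hr2, hr1] using h))
  have e1 : r ^ 2 + r * r1 + r1 ^ 2 + -(2 + C') * (r + r1) + (2 * C' + 1) = 0 :=
    mul_left_cancel₀ (sub_ne_zero.2 hrp) (by linear_combination hf1 - hfr)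
  have e2 : r ^ 2 + r * r2 + r2 ^ 2 + -(2 + C') * (r + r2) + (2 * C' + 1) = 0 :=
    mul_left_cancel₀ (sub_ne_zero.2 hr20) (by linear_combination hf2 - hfr)
  have e3 : r + r1 + r2 + -(2 + C') = 0 :=
    mul_left_cancel₀ (sub_ne_zero.2 hr21) (by linear_combination e2 - e1)
  have e4 : r * r1 * r2 = 1 := by linear_combination hfr - r * e1 + r * r1 * e3
  have e5 : (2 - r) * (2 - r1) * (2 - r2) = 1 := by
    linear_combination (-1 : AdjoinRoot f) * e4 + (2 * (r + r1) - 4) * e3 - 2 * e1
  have hn : normExp p 3 = 1 + p + p * p := by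
    rw [normExp_eq_sum hpp.two_le, Finset.sum_range_succ, Finset.sum_range_succ,
      Finset.sum_range_one]
    ring
  have hpow : ∀ y : AdjoinRoot f, y ^ normExp p 3 = y * y ^ p * (y ^ p) ^ p := fun y => by
    rw [hn, pow_add, pow_add, pow_one, pow_mul]
  have hN1 : r ^ normExp p 3 = 1 := by rw [hpow, ← hr1, ← hr2, e4]
  have hN2 : (2 - r) ^ normExp p 3 = 1 := by
    have h2p : (2 : AdjoinRoot f) ^ p = 2 := by
      have := map_ofNat (frobenius (AdjoinRoot f) p) 2
      simpa [frobenius_def] using this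
    rw [hpow, sub_pow_char, h2p, sub_pow_char, h2p, ← hr1, ← hr2, e5]
  have : Finite F := Nat.finite_of_card_ne_zero (by rw [hF]; exact pow_ne_zero 3 hpp.ne_zero)
  have := Fintype.ofFinite F
  have e := FiniteField.ringEquivOfCardEq (K := AdjoinRoot f) (K' := F)
    (by rw [← Nat.card_eq_fintype_card, ← Nat.card_eq_fintype_card, hK, hF])
  refine ⟨e r, ⟨by rw [← map_pow, hN1, map_one],
    by rw [← map_ofNat e 2, ← map_sub, ← map_pow, hN2, map_one]⟩, fun h => hrp ?_⟩
  have h1 : r = 1 := e.injective (by rw [h, map_one])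
  rw [hr1, h1, one_pow]

theorem exists_ne_one_pairSet (hF : Fintype.card F = p ^ q) (hp : p ≠ 2) (hq : q.Prime)
    (hq2 : q ≠ 2) : ∃ a : F, a ∈ pairSet p q F ∧ a ≠ 1 := by
  classical
  rcases eq_or_ne q 3 with rfl | hq3
  · exact exists_cubic_root (by rw [Nat.card_eq_fintype_card, hF]) hp
  have hq5 : 5 ≤ q := by
    have := hq.two_le
    have h4 : q ≠ 4 := fun h => by rw [h] at hq; norm_num at hq
    omega
  have hpp : p.Prime := Fact.out
  have hp3 : 3 ≤ p := by have := hpp.two_le; omega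
  have := charP_of_card_eq_prime_pow hF
  have h2F : (2 : F) ≠ 0 := Ring.two_ne_zero (by rwa [ringChar.eq F p])
  by_contra! hcon
  set U := Finset.univ.filter fun x : F => x ^ normExp p q = 1 with hU
  have hE : (U.filter fun x => (2 - x) ^ normExp p q = 1).card ≤ 1 :=
    Finset.card_le_one.2 fun a ha b hb => by
      simp only [hU, Finset.mem_filter, Finset.mem_univ, true_and] at ha hb
      rw [hcon a ha, hcon b hb]
  have h1 := card_normOne_sq_le (p := p) (q := q) (by omega) h2F hE
  rw [← hU, hF] at h1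
  have h3 : p ^ (q - 1) ≤ U.card :=
    (le_normExp hpp.two_le (by omega)).trans (normExp_le_card_filter hF (by omega))
  have h4 : ((p ^ (q - 1) : ℕ) : ℝ) ^ 2 ≤ (U.card : ℝ) ^ 2 :=
    pow_le_pow_left₀ (Nat.cast_nonneg _) (by exact_mod_cast h3) 2
  set a : ℝ := (p : ℝ) ^ (q - 2) with ha
  have hp3' : (3 : ℝ) ≤ p := by exact_mod_cast hp3
  have hN : ((p ^ q : ℕ) : ℝ) = a * (p : ℝ) ^ 2 := by
    rw [ha, ← pow_add, Nat.sub_add_cancel (by omega), Nat.cast_pow]
  have hP : ((p ^ (q - 1) : ℕ) : ℝ) = a * p := by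
    rw [ha, ← pow_succ, Nat.cast_pow]
    congr 1
    omega
  have ha3 : (p : ℝ) ^ 3 ≤ a := pow_le_pow_right₀ (by linarith) (by omega)
  set s := Real.sqrt (p ^ q : ℕ) with hs
  have hs2 : s ^ 2 = a * (p : ℝ) ^ 2 := by rw [hs, Real.sq_sqrt (Nat.cast_nonneg _), hN]
  have hpa : 3 * (p : ℝ) ^ 2 ≤ a := by nlinarith
  have ha27 : (27 : ℝ) ≤ a := by nlinarith
  have hpos : (0 : ℝ) < a * (p : ℝ) ^ 2 := by positivity
  have h5 : a ≤ 1 + s := by
    have h6 : (a * (p : ℝ)) ^ 2 ≤ a * (p : ℝ) ^ 2 * (1 + s) := by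
      rw [hN] at h1; rw [hP] at h4
      push_cast at h1
      nlinarith
    exact le_of_mul_le_mul_left (by nlinarith) hpos
  nlinarith [Real.sqrt_nonneg ((p ^ q : ℕ) : ℝ)]

end CfsgLib.AppendixC
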