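import Mathlib

/-!
The set of elements `a` of a field of order `p ^ q` such that `a` and `2 - a` have norm one
(Bender–Glauberman, Appendix C): definitions, and the bound `p ≤ q` when the set is symmetric.
-/

set_option autoImplicit false

namespace CfsgLib.AppendixC

/-- The exponent of the norm from the field of order `p ^ q` to the prime field. -/
def normExp (p q : ℕ) : ℕ := (p ^ q - 1) / (p - 1)

theorem normExp_eq_sum {p : ℕ} (hp : 2 ≤ p) (q : ℕ) :
    normExp p q = ∑ i ∈ Finset.range q, p ^ i := (Nat.geomSum_eq hp q).symm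

theorem normExp_mul {p : ℕ} (q : ℕ) : normExp p q * (p - 1) = p ^ q - 1 :=
  Nat.div_mul_cancel (Nat.sub_one_dvd_pow_sub_one p q)

theorem le_normExp {p q : ℕ} (hp : 2 ≤ p) (hq : 1 ≤ q) : p ^ (q - 1) ≤ normExp p q := by
  rw [normExp_eq_sum hp]
  exact Finset.single_le_sum (f := fun i => p ^ i) (fun _ _ => Nat.zero_le _)
    (Finset.mem_range.2 (by omega))

theorem two_le_normExp {p q : ℕ} (hp : 2 ≤ p) (hq : 2 ≤ q) : 2 ≤ normExp p q :=
  hp.trans ((Nat.le_self_pow (by omega) p).trans (le_normExp hp (by omega)))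

variable {F : Type*} [Field F]

/-- The elements `a` such that `a` and `2 - a` have norm one. -/
def pairSet (p q : ℕ) (F : Type*) [Field F] : Set F :=
  {a | a ^ normExp p q = 1 ∧ (2 - a) ^ normExp p q = 1}

theorem one_mem_pairSet (p q : ℕ) : (1 : F) ∈ pairSet p q F :=
  ⟨one_pow _, by norm_num⟩

theorem two_sub_mem_pairSet {p q : ℕ} {a : F} (ha : a ∈ pairSet p q F) :
    2 - a ∈ pairSet p q F :=
  ⟨ha.2, by rw [sub_sub_cancel]; exact ha.1⟩

variable {p q : ℕ} [Fact p.Prime] [CharP F p]

omit [CharP F p] in
theorem ne_zero_of_pow_normExp {a : F} (hq : 1 ≤ q) (h : a ^ normExp p q = 1) : a ≠ 0 := by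
  intro h0
  have h1 := le_normExp (Fact.out : p.Prime).two_le hq
  have h2 : 0 < p ^ (q - 1) := pow_pos (Fact.out : p.Prime).pos _
  rw [h0, zero_pow (by omega)] at h
  exact zero_ne_one h

theorem le_of_symmetric (hq : 1 ≤ q) (hinv : ∀ a ∈ pairSet p q F, a⁻¹ ∈ pairSet p q F)
    {a : F} (ha : a ∈ pairSet p q F) (ha1 : a ≠ 1) : p ≤ q := by
  have hp : p.Prime := Fact.out
  set c := 1 - a with hc
  have key : ∀ k : ℕ, ((k : F) * c + 1) ^ normExp p q = 1 ∧
      (((k : F) - 1) * c + 1) / ((k : F) * c + 1) ∈ pairSet p q F := by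
    intro k
    induction k with
    | zero => simpa [hc] using ha
    | succ k ih =>
      obtain ⟨h1, h2⟩ := ih
      have hb := ne_zero_of_pow_normExp hq h1
      have h3 := two_sub_mem_pairSet h2
      have e : 2 - (((k : F) - 1) * c + 1) / ((k : F) * c + 1) =
          (((k + 1 : ℕ) : F) * c + 1) / ((k : F) * c + 1) := by
        field_simp
        push_cast
        ring
      rw [e] at h3
      refine ⟨?_, ?_⟩
      · have := h3.1
        rwa [div_pow, h1, div_one] at this
      · have := hinv _ h3
        rw [inv_div] at this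
        convert this using 2
        push_cast
        ring
  by_contra hlt
  push Not at hlt
  have hc0 : c ≠ 0 := fun h => ha1 (by rw [hc, sub_eq_zero] at h; exact h.symm)
  set f : Polynomial F :=
    (∏ i ∈ Finset.range q, (Polynomial.C (c ^ p ^ i) * Polynomial.X + 1)) - 1 with hf
  have hlin : ∀ i, (Polynomial.C (c ^ p ^ i) * Polynomial.X + 1 : Polynomial F).natDegree = 1 :=
    fun i => by
      rw [← Polynomial.C_1, Polynomial.natDegree_linear (pow_ne_zero _ hc0)]
  have hprod : (∏ i ∈ Finset.range q,
      (Polynomial.C (c ^ p ^ i) * Polynomial.X + 1 : Polynomial F)).natDegree = q := by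
    rw [Polynomial.natDegree_prod]
    · simp only [hlin, Finset.sum_const, Finset.card_range, smul_eq_mul, mul_one]
    · intro i _ h
      have := hlin i
      rw [h, Polynomial.natDegree_zero] at this
      exact absurd this zero_ne_one
  have hdeg : f.natDegree = q := by
    rw [hf, ← Polynomial.C_1, Polynomial.natDegree_sub_C, Polynomial.C_1, hprod]
  have hroot : ∀ k ∈ Finset.range p, f.eval (k : F) = 0 := by
    intro k _
    have h1 := (key k).1
    rw [normExp_eq_sum hp.two_le, ← Finset.prod_pow_eq_pow_sum] at h1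
    simp only [hf, Polynomial.eval_sub, Polynomial.eval_prod, Polynomial.eval_add,
      Polynomial.eval_mul, Polynomial.eval_C, Polynomial.eval_X, Polynomial.eval_one]
    rw [sub_eq_zero]
    refine (Finset.prod_congr rfl fun i _ => ?_).trans h1
    have e := map_natCast (iterateFrobenius F p i) k
    have e' : iterateFrobenius F p i ((k : F) * c + 1) = (k : F) * c ^ p ^ i + 1 := by
      rw [map_add, map_mul, map_one, e, iterateFrobenius_def]
    rw [iterateFrobenius_def] at e'
    rw [e']; ring
  have hf0 : f = 0 := by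
    refine Polynomial.eq_zero_of_natDegree_lt_card_of_eval_eq_zero f
      (f := fun k : Fin p => ((k : ℕ) : F)) ?_ (fun k => hroot k (Finset.mem_range.2 k.2))
      (by rw [hdeg, Fintype.card_fin]; exact hlt)
    intro i j h
    exact Fin.ext (CharP.natCast_injOn_Iio F p i.2 j.2 h)
  rw [hf0, Polynomial.natDegree_zero] at hdeg
  omega

end CfsgLib.AppendixC
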